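/-
The generalized Fitting subgroup of the centraliser of the central involution in an extension by
two, and centrality in a Sylow subgroup.
-/
import Cfsg.Agent.H16.Fi24.Orbits
import Cfsg.Agent.H16.Fi24.U6Ctx
import Cfsg.Agent.H76.CharPFStar
import Cfsg.Agent.H1.Cores

set_option autoImplicit false
set_option maxRecDepth 100000
set_option linter.unusedSectionVars false

namespace H71.Mon24

open Cfsg H16.Fi24

universe u

theorem span_three : ∀ (i : Fin 6) (b : F4), ∃ u : W, lab u = 3 ∧ lab (u + Pi.single i b) = 3 := by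
  decide +kernel

/-- A subgroup of `W` containing every vector of label three is everything. -/
theorem all_of_three (P : W → Prop) (hadd : ∀ a b, P a → P b → P (a + b))
    (h3 : ∀ v, lab v = 3 → P v) : ∀ v, P v := by
  have hsingle : ∀ (i : Fin 6) (b : F4), P (Pi.single i b) := fun i b => by
    obtain ⟨u, hu, hu'⟩ := span_three i b
    have h := hadd _ _ (h3 u hu) (h3 _ hu')
    have hh : ∀ a c : F4, a + (a + c) = c := by decide
    rwa [show u + (u + Pi.single i b) = Pi.single i b from funext fun j => hh _ _] at h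
  intro v
  rw [← Finset.univ_sum_single v]
  exact Finset.sum_induction _ P hadd (by simpa using hsingle 0 0) fun i _ => hsingle i _

section central

variable {G : Type u} [Group G] [Finite G] {z : G} {Q : Subgroup (Subgroup.centralizer ({z} : Set G))}
  [Q.Normal]

/-- An element commuting with all of `Q` is trivial or `z`. -/
theorem cen_Q (hF : IsOfLargeFischerTypeAt z Q) {c : Subgroup.centralizer ({z} : Set G)}
    (hc : ∀ q ∈ Q, q * c = c * q) : (c : G) = 1 ∨ (c : G) = z := by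
  obtain ⟨D⟩ := nonempty_model hF
  have hcQ : c ∈ Q := by
    rw [← hF.1.2.1]
    refine Cfsg.Comp.centralizer_fStar_le (Subgroup.mem_centralizer_iff.2 fun q hq => ?_)
    exact hc q (hF.1.2.1 ▸ hq)
  refine (D.eq_zero c hcQ).1 ?_
  by_contra h
  obtain ⟨y, hy, hne⟩ := D.exists_move hcQ h
  exact hne (hc y hy).symm

/-- The involution is central in a Sylow subgroup. -/
theorem central_sylow (hF : IsOfLargeFischerTypeAt z Q) :
    ∃ P : Sylow 2 G, z ∈ (P : Subgroup G) ∧ ∀ x ∈ (P : Subgroup G), Commute x z := by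
  haveI : Fact (Nat.Prime 2) := ⟨Nat.prime_two⟩
  obtain ⟨D⟩ := nonempty_model hF
  have hQ2 : IsPGroup 2 (Q.map (Subgroup.centralizer ({z} : Set G)).subtype) := by
    refine IsPGroup.map ?_ _
    exact IsPGroup.of_card hF.1.2.2.2.1
  obtain ⟨P, hP⟩ := hQ2.exists_le_sylow
  have hzP : z ∈ (P : Subgroup G) := hP ⟨zc z, D.zc_mem, rfl⟩
  haveI : Nontrivial (P : Subgroup G) := by
    refine ⟨⟨⟨z, hzP⟩, 1, fun e => ?_⟩⟩
    have h := hF.1.1
    rw [show z = 1 from congrArg Subtype.val e, orderOf_one] at h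
    omega
  haveI := P.isPGroup'.center_nontrivial
  obtain ⟨c, hc⟩ := exists_ne (1 : Subgroup.center (P : Subgroup G))
  have hcm : ∀ x ∈ (P : Subgroup G), x * ((c : (P : Subgroup G)) : G) = (c : (P : Subgroup G)) * x :=
    fun x hx => congrArg Subtype.val (Subgroup.mem_center_iff.1 c.2 ⟨x, hx⟩)
  set c' : Subgroup.centralizer ({z} : Set G) :=
    ⟨((c : (P : Subgroup G)) : G), Subgroup.mem_centralizer_singleton_iff.2 (hcm z hzP).symm⟩
  refine ⟨P, hzP, fun x hx => ?_⟩
  rcases cen_Q hF (c := c') (fun q hq => Subtype.ext (hcm _ (hP ⟨q, hq, rfl⟩))) with h | h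
  · exact absurd (Subtype.ext (Subtype.ext h) : c = 1) hc
  · rw [← h]; exact hcm x hx

end central

section fstar

variable {X : Type u} [Group X] [Finite X] (G₀ : Subgroup X) {z : G₀}
  {Q : Subgroup (Subgroup.centralizer ({z} : Set G₀))} [Q.Normal]

/-- If the outer elements commuting with `z` act nontrivially on `Q` modulo `⟨z⟩`, then `Q` is the
generalized Fitting subgroup of the centraliser in the extension. -/
theorem fitting_eq (hidx : G₀.index = 2) (hF : IsOfLargeFischerTypeAt z Q)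
    (hout : ∀ a : X, a ∉ G₀ → Commute a (z : X) → ∃ q ∈ Q,
      a * ((q : G₀) : X) * a⁻¹ ≠ ((q : G₀) : X) ∧ a * ((q : G₀) : X) * a⁻¹ ≠ ((q : G₀) : X) * z) :
    (generalizedFittingSubgroup ↥(Subgroup.centralizer ({(z : X)} : Set X))).map
      (Subgroup.subtype _) = (Q.map (Subgroup.subtype _)).map G₀.subtype := by
  classical
  haveI : Fact (Nat.Prime 2) := ⟨Nat.prime_two⟩
  haveI := Subgroup.normal_of_index_eq_two hidx
  obtain ⟨D⟩ := nonempty_model hF
  set C := Subgroup.centralizer ({(z : X)} : Set X) with hC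
  let ι : (Subgroup.centralizer ({z} : Set G₀)) →* C := MonoidHom.mk' (fun h => ⟨((h : G₀) : X), Subgroup.mem_centralizer_singleton_iff.2
    (congrArg Subtype.val (Subgroup.mem_centralizer_singleton_iff.1 h.2))⟩) fun _ _ => rfl
  have hι : Function.Injective ι := fun a b e =>
    Subtype.ext (Subtype.ext (congrArg (fun x : C => (x : X)) e))
  set K : Subgroup C := G₀.subgroupOf C with hK
  have hlift : ∀ a : C, a ∈ K → ∃ h : (Subgroup.centralizer ({z} : Set G₀)), ι h = a := fun a ha =>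
    ⟨⟨⟨(a : X), ha⟩, Subgroup.mem_centralizer_singleton_iff.2
      (Subtype.ext (Subgroup.mem_centralizer_singleton_iff.1 a.2))⟩, rfl⟩
  set Wc : Subgroup C := pCore 2 C with hWc
  haveI : Wc.Normal := H1.pCore_normal' 2 C
  haveI : K.Normal := inferInstanceAs (G₀.subgroupOf C).Normal
  have hQp : IsPGroup 2 Q := IsPGroup.of_card hF.1.2.2.2.1
  have hQ1 : Q.map ι ≤ Wc := by
    intro x hx
    obtain ⟨q, hq, rfl⟩ := hx
    haveI : ((Q.map ι).subgroupOf K).Normal := ⟨by
      rintro n ⟨q, hq, e⟩ k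
      obtain ⟨h, hh⟩ := hlift k k.2
      refine ⟨h * q * h⁻¹, Subgroup.Normal.conj_mem inferInstance q hq h, ?_⟩
      simp only [_root_.map_mul, map_inv, hh, e, Subgroup.coe_subtype, Subgroup.coe_mul,
        Subgroup.coe_inv]⟩
    have h1 : (Q.map ι).subgroupOf K ≤ pCore 2 K :=
      H1.le_pCore (IsPGroup.comap_subtype (hQp.map ι))
    have h2 := Subgroup.mem_map_of_mem K.subtype
      (h1 (Subgroup.mem_subgroupOf.2 (⟨q, hq, rfl⟩ : ι q ∈ Q.map ι) :
        (⟨ι q, show ι q ∈ K from (q : G₀).2⟩ : K) ∈ (Q.map ι).subgroupOf K))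
    rw [H1.pCore_subgroup_map_eq] at h2
    exact h2.1
  have hQ2 : ∀ a ∈ Wc, a ∈ K → ∃ q ∈ Q, ι q = a := by
    intro a ha haK
    obtain ⟨h, rfl⟩ := hlift a haK
    refine ⟨h, ?_, rfl⟩
    rw [← hF.1.2.1]
    refine ((Cfsg.Comp.pCore_le_fitting 2).trans Cfsg.Comp.fitting_le_fStar) ?_
    exact H1.le_pCore ((H1.isPGroup_pCore 2 C).comap_of_injective ι hι) (show h ∈ Wc.comap ι from ha)
  -- the action on the vectors
  have hcj : ∀ (a : C) (q : (Subgroup.centralizer ({z} : Set G₀))), q ∈ Q → ∃ q' ∈ Q, ι q' = a * ι q * a⁻¹ := fun a q hq =>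
    hQ2 _ (Subgroup.Normal.conj_mem inferInstance _ (hQ1 ⟨q, hq, rfl⟩) a)
      (Subgroup.Normal.conj_mem inferInstance (ι q) (q : G₀).2 a)
  choose cj hcjQ hcje using hcj
  choose pre hpreQ hpre using D.surj
  let σ : C → W → W := fun a v => D.Φ (cj a (pre v) (hpreQ v))
  have hzc : ∀ a : C, a * ι (zc z) * a⁻¹ = ι (zc z) := fun a => by
    refine mul_inv_eq_of_eq_mul (Subtype.ext ?_)
    exact Subgroup.mem_centralizer_singleton_iff.1 a.2
  have hspec : ∀ (a : C) (q q' : (Subgroup.centralizer ({z} : Set G₀))), q ∈ Q → q' ∈ Q → ι q' = a * ι q * a⁻¹ →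
      σ a (D.Φ q) = D.Φ q' := by
    intro a q q' hq hq' e
    have h1 := hcje a (pre (D.Φ q)) (hpreQ _)
    show D.Φ (cj a (pre (D.Φ q)) (hpreQ _)) = _
    generalize cj a (pre (D.Φ q)) (hpreQ _) = w at h1 ⊢
    rcases D.eq_or_mul (hpreQ (D.Φ q)) hq (hpre _) with h | h
    · rw [show pre (D.Φ q) = q from Subtype.ext h, ← e] at h1
      rw [hι h1]
    · rw [show pre (D.Φ q) = q * zc z from Subtype.ext h, _root_.map_mul,
        show a * (ι q * ι (zc z)) * a⁻¹ = (a * ι q * a⁻¹) * (a * ι (zc z) * a⁻¹) by group, hzc,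
        ← e, ← _root_.map_mul] at h1
      rw [hι h1, D.map_mul q' hq' _ D.zc_mem,
        (D.eq_zero (zc z) D.zc_mem).2 (Or.inr rfl), add_zero]
  have hone : ∀ v, σ 1 v = v := fun v => by
    conv_lhs => rw [← hpre v]
    rw [hspec 1 _ _ (hpreQ v) (hpreQ v) (by simp), hpre]
  have hmul : ∀ a b v, σ (a * b) v = σ a (σ b v) := fun a b v => by
    have e1 := hcje b (pre v) (hpreQ v)
    have e2 := hcje a _ (hcjQ b (pre v) (hpreQ v))
    conv_rhs => rw [show σ b v = D.Φ (cj b (pre v) (hpreQ v)) from rfl,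
      hspec a _ _ (hcjQ _ _ _) (hcjQ _ _ _) e2]
    conv_lhs => rw [← hpre v]
    exact hspec _ _ _ (hpreQ v) (hcjQ _ _ _) (by rw [e2, e1]; group)
  have hadd : ∀ a u v, σ a (u + v) = σ a u + σ a v := fun a u v => by
    rw [show σ a u + σ a v = D.Φ (cj a (pre u) (hpreQ u) * cj a (pre v) (hpreQ v)) from
      (D.map_mul _ (hcjQ _ _ _) _ (hcjQ _ _ _)).symm,
      show u + v = D.Φ (pre u * pre v) by rw [D.map_mul _ (hpreQ u) _ (hpreQ v), hpre, hpre]]
    refine hspec _ _ _ (mul_mem (hpreQ u) (hpreQ v)) (mul_mem (hcjQ _ _ _) (hcjQ _ _ _)) ?_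
    rw [_root_.map_mul, _root_.map_mul, hcje, hcje]; group
  have hrho : ∀ h v, σ (ι h) v = D.ρ h v := fun h v => by
    conv_lhs => rw [← hpre v]
    rw [hspec _ _ _ (hpreQ v) (Subgroup.Normal.conj_mem inferInstance _ (hpreQ v) h)
      (by simp [_root_.map_mul]), ← D.conj h _ (hpreQ v), hpre]
  have hinv : ∀ a v, σ a⁻¹ (σ a v) = v := fun a v => by rw [← hmul, inv_mul_cancel, hone]
  have hzero : ∀ a, σ a 0 = 0 := fun a => by
    have h := hadd a 0 0
    rw [add_zero] at h
    exact left_eq_add.1 h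
  have hsing : ∀ a v, 2 ≤ lab v → 2 ≤ lab (σ a v) := fun a v hv => by
    obtain ⟨hq, hne⟩ := (lab_cases v).2.2.1 hv
    refine (lab_cases _).2.2.2 ⟨?_, fun e => hne ?_⟩
    · refine (D.sq _ (hcjQ _ _ _)).1 (hι ?_)
      have h1 : pre v * pre v = 1 := (D.sq _ (hpreQ v)).2 (by rw [hpre]; exact hq)
      rw [_root_.map_mul, hcje, show a * ι (pre v) * a⁻¹ * (a * ι (pre v) * a⁻¹) =
        a * (ι (pre v) * ι (pre v)) * a⁻¹ by group, ← _root_.map_mul, h1, _root_.map_one]
      group
    · rw [← hinv a v, e, hzero]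
  have hlab : ∀ a v, lab v = 3 → lab (σ a v) = 3 := by
    intro a v hv
    by_contra hne
    have h2 : lab (σ a v) = 2 := by
      have := hsing a v (by omega)
      have := (lab_cases (σ a v)).2.1
      omega
    have hsub : (Finset.univ.filter fun w : W => lab w = 3).image (σ a) ⊆
        Finset.univ.filter fun w : W => lab w = 2 := by
      intro w hw
      obtain ⟨u, hu, rfl⟩ := Finset.mem_image.1 hw
      simp only [Finset.mem_filter, Finset.mem_univ, true_and] at hu ⊢
      obtain ⟨g, hg, e⟩ := exists_of_lab (v := v) (u := u) (by omega) (by omega)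
      obtain ⟨h, -, rfl⟩ := D.exists_rho hg
      obtain ⟨h', hh'⟩ := hlift (a * ι h * a⁻¹)
        (Subgroup.Normal.conj_mem inferInstance (ι h) (h : G₀).2 a)
      rw [← e, ← hrho, ← hmul, show a * ι h = ι h' * a by rw [hh']; group, hmul, hrho, D.rho_lab, h2]
    have h := Finset.card_le_card hsub
    rw [Finset.card_image_of_injective _ (Function.LeftInverse.injective (hinv a)), card_lab_two,
      card_lab_three] at h
    omega
  -- the core acts trivially
  let act : MulAction Wc {v : W // lab v = 3} :=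
    { smul := fun w v => ⟨σ w v, hlab w v v.2⟩
      one_smul := fun v => Subtype.ext (hone v)
      mul_smul := fun a b v => Subtype.ext (hmul a b v) }
  have hodd : ¬ 2 ∣ Nat.card {v : W // lab v = 3} := by
    rw [Nat.card_eq_fintype_card, Fintype.card_subtype, card_lab_three]
    norm_num
  obtain ⟨v, hv⟩ := (H1.isPGroup_pCore 2 C).nonempty_fixed_point_of_prime_not_dvd_card
    (α := {v : W // lab v = 3}) hodd
  have hfix3 : ∀ u, lab u = 3 → ∀ w ∈ Wc, σ w u = u := by
    intro u hu w hw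
    obtain ⟨g, hg, e⟩ := exists_of_lab (v := v.1) (u := u) (by rw [v.2]; norm_num) (by rw [hu, v.2])
    obtain ⟨h, -, rfl⟩ := D.exists_rho hg
    have hfix : σ ((ι h)⁻¹ * w * ι h) v.1 = v.1 := congrArg Subtype.val
      (hv ⟨_, by simpa using Subgroup.Normal.conj_mem (inferInstance : Wc.Normal) w hw (ι h)⁻¹⟩)
    rw [← e, ← hrho, ← hmul, show w * ι h = ι h * ((ι h)⁻¹ * w * ι h) by group, hmul, hfix]
  have htriv : ∀ u, ∀ w ∈ Wc, σ w u = u :=
    all_of_three (fun u => ∀ w ∈ Wc, σ w u = u)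
      (fun a b ha hb w hw => by rw [hadd, ha w hw, hb w hw]) hfix3
  have hcontra : ∀ a : C, (∀ u, σ a u = u) → a ∈ K := by
    intro a ha
    by_contra hn
    obtain ⟨q, hq, h1, h2⟩ := hout (a : X) (fun h => hn h)
      (Subgroup.mem_centralizer_singleton_iff.1 a.2)
    obtain ⟨q', hq', e⟩ : ∃ q' ∈ Q, ι q' = a * ι q * a⁻¹ := ⟨_, hcjQ a q hq, hcje a q hq⟩
    have h3 := (hspec a q q' hq hq' e).symm.trans (ha _)
    have e' : ((q' : G₀) : X) = (a : X) * ((q : G₀) : X) * (a : X)⁻¹ := congrArg Subtype.val e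
    rcases D.eq_or_mul hq' hq h3 with h | h
    · exact h1 (e'.symm.trans (congrArg Subtype.val h))
    · exact h2 (e'.symm.trans (congrArg Subtype.val h))
  have hWQ : Wc = Q.map ι := le_antisymm (fun a ha => by
    obtain ⟨q, hq, e⟩ := hQ2 a ha (hcontra a fun u => htriv u a ha)
    exact ⟨q, hq, e⟩) hQ1
  have hcent : Subgroup.centralizer (Wc : Set C) ≤ Wc := by
    intro a ha
    have haK : a ∈ K := hcontra a fun u => by
      conv_lhs => rw [← hpre u]
      rw [hspec a _ _ (hpreQ u) (hpreQ u) ?_, hpre]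
      rw [← Subgroup.mem_centralizer_iff.1 ha (ι (pre u)) (hQ1 ⟨_, hpreQ u, rfl⟩),
        mul_inv_cancel_right]
    obtain ⟨h, rfl⟩ := hlift a haK
    have hh : h ∈ Q := by
      rw [← hF.1.2.1]
      refine Cfsg.Comp.centralizer_fStar_le (Subgroup.mem_centralizer_iff.2 fun q hq => hι ?_)
      rw [hF.1.2.1] at hq
      rw [_root_.map_mul, _root_.map_mul]
      exact Subgroup.mem_centralizer_iff.1 ha (ι q) (hQ1 ⟨q, hq, rfl⟩)
    exact hQ1 ⟨h, hh, rfl⟩
  rw [(H76.fStar_eq_pCore_iff (G := C) (p := 2)).2 hcent, ← hWc, hWQ, Subgroup.map_map,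
    Subgroup.map_map]
  rfl

end fstar

end H71.Mon24
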