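/-
An element of the centraliser of `z` inverting the element of order three in standard position.
-/
import Cfsg.Agent.H84.Monster.ThreeMain
import Cfsg.Agent.H84.Monster.Local

set_option autoImplicit false
set_option maxRecDepth 100000
set_option linter.unusedSectionVars false

namespace H71.Mon24

open Cfsg H95 H56M H84.Mon

/-- An involution of the frame group inverting the permutation of order three. -/
def invN : ℕ := 645810048575688567162481442630502528

theorem invN_ok : H90.isPerm invN = true ∧ H90.preservesCode invN = true ∧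
    Three.sameN (H90.compN invN Three.permN) (H90.compN (H90.compN Three.permN Three.permN) invN) = true := by
  decide +kernel

theorem cfg_repr : H90.Repr (Three.cfg.perm Three.cfg_ok) Three.permN :=
  Cfg.perm_repr Three.cfg Three.cfg_ok

theorem exists_mono : ∃ b : Co0,
    b * Three.cfg.aut Three.cfg_ok * b⁻¹ = Three.cfg.aut Three.cfg_ok ^ 2 := by
  obtain ⟨h1, h2, h3⟩ := invN_ok
  obtain ⟨σ, hσ⟩ := H90.exists_repr h1
  have hm : σ ∈ M24 := (H90.mem_M24_iff_preservesCode hσ).mpr h2
  set π := Three.cfg.perm Three.cfg_ok with hπ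
  have e : σ * π = π ^ 2 * σ := by
    rw [pow_two]
    exact (Three.repr_of_same (hσ.mul cfg_repr) h3).unique ((cfg_repr.mul cfg_repr).mul hσ)
  refine ⟨mono σ ∅ hm H56M.empty_supp, mul_inv_eq_iff_eq_mul.mpr ?_⟩
  rw [← Three.mono_pow_perm 2 (M24.pow_mem (Three.cfg.perm_mem Three.cfg_ok) 2)]
  refine co0_ext fun v => Subtype.ext ?_
  rw [mul_smul, Cfg.aut, mono_smul, mono_smul, mul_smul, mono_smul, mono_smul, signedPerm_comp,
    signedPerm_comp, Finset.image_empty, Finset.image_empty, e]

variable {G : Type*} [Group G] [Finite G] {z s : G} {Q : Subgroup (CZ z)} [Q.Normal] {D : Data z Q}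
  {y : G}

/-- Some element commuting with `z` inverts the element of order three. -/
theorem exists_inverting (S : H12.Monster.Setup D s y (Three.cfg.aut Three.cfg_ok) 3) :
    ∃ x : G, x * z = z * x ∧ x * y * x⁻¹ = y⁻¹ := by
  obtain ⟨b, hb⟩ := exists_mono
  obtain ⟨h, hl⟩ := D.exists_lift b
  have h1 : D.Lift (h * y * h⁻¹) (Three.cfg.aut Three.cfg_ok ^ 2) := hb ▸ (hl.mul S.lift).mul hl.inv
  have h2 : D.Lift (y ^ 2) (Three.cfg.aut Three.cfg_ok ^ 2) := lift_pow D S.lift 2
  have hq : h * y * h⁻¹ * (y ^ 2)⁻¹ ∈ QG Q := by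
    have := h1.mul h2.inv
    rw [mul_inv_cancel] at this
    exact D.lift_one_iff.mp this
  have hy3 : y ^ 3 = 1 := S.ypow
  obtain ⟨q, hqQ, hqe⟩ := exists_conj_eq D h1.1 (pow_mem S.lift.1 2) (by decide : Odd 3)
    (by rw [conj_pow, hy3]; group) (by rw [← pow_mul, mul_comm, pow_mul, hy3, one_pow]) hq
  have e2 : y⁻¹ = y ^ 2 := inv_eq_of_mul_eq_one_right (by rw [← pow_succ', hy3])
  refine ⟨q * h, mem_CZ.mp (mul_mem (coe_mem_CZ hqQ) hl.1), ?_⟩
  rw [e2, ← hqe]
  group

end H71.Mon24
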