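/-
The class of an extension by two is primitive, so the extension is the presented group.
-/
import Cfsg.Agent.H71.Big24.Final
import Cfsg.Agent.H71.Big24.Charts
import Cfsg.Agent.H71.Big24.Count
import Cfsg.Agent.H71.Big24.Bound
import Cfsg.Agent.H71.Big24.Comp
import Cfsg.Agent.H92.FiHe.Type24
import Cfsg.Agent.S1698
import Cfsg.Agent.S1691

set_option autoImplicit false
set_option linter.unusedSectionVars false

namespace H71.Mon24

open Cfsg

universe u

/-- Such an extension is the presented group, the subgroup of index two its derived subgroup, and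
the class is of type M(24). -/
theorem identify {X : Type u} [Group X] [Finite X] (G₀ : Subgroup X) (hidx : G₀.index = 2) {z : ↥G₀}
    {Q : Subgroup (Subgroup.centralizer ({z} : Set ↥G₀))} [Q.Normal]
    (hF : IsOfLargeFischerTypeAt z Q)
    (hcentral : ∃ P : Sylow 2 ↥G₀, z ∈ (P : Subgroup ↥G₀) ∧ ∀ x ∈ (P : Subgroup ↥G₀), Commute x z)
    (hFX : (generalizedFittingSubgroup ↥(Subgroup.centralizer ({(z : X)} : Set X))).map
      (Subgroup.subtype _) = (Q.map (Subgroup.subtype _)).map G₀.subtype) :
    (∃ E : Set X, IsThreeTranspositionClass E ∧ IsOfTypeM24 X E) ∧ Spor.IsoFi24' ↥G₀ := by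
  obtain ⟨D, hB, hR⟩ := H71.Big24.chartStmt G₀ hidx hF hcentral hFX
  have hz := H71.Big24.fixedStmt hidx hB hR
  obtain ⟨d, hd⟩ := hz.nonempty
  obtain ⟨M, C, hdC, hc⟩ := H71.Big24.compStmt hB
    (H71.Big24.bigMu_of H71.Big24.countStmt H71.Big24.pairStmt H71.Big24.boundStmt hB hz) d hd.1
  have htop := hc.eq_top hidx hB hR hz hd hdC (H71.Big24.nearCount hB hz hd)
  subst htop
  have hcls := H65.Fischer.class_map Subgroup.topEquiv hc.cls
  have htyp := H98.Fischer.typeM24_map Subgroup.topEquiv hc.typ
  refine ⟨⟨_, hcls, htyp⟩, ?_⟩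
  obtain ⟨e, -⟩ := H92.FiHe.exists_iso_fi24 (H99.class_toGroup hcls)
    (H65.Fischer.prim_image Subgroup.topEquiv hc.prim) htyp
  haveI : Finite Spor.Fi24 := Finite.of_equiv X e.toEquiv.symm
  have hidx' : ((commutator Spor.Fi24).map e.toMonoidHom).index = 2 := by
    rw [Subgroup.index_map_of_bijective e.bijective]; exact Cfsg.Agent.S1691.result
  haveI := Subgroup.normal_of_index_eq_two hidx
  have hle : (commutator Spor.Fi24).map e.toMonoidHom ≤ G₀ := by
    rw [commutator_def, Subgroup.map_commutator, Subgroup.map_top_of_surjective _ e.surjective,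
      Subgroup.commutator_le]
    intro a _ b _
    rw [commutatorElement_def, Subgroup.mul_mem_iff_of_index_two hidx,
      Subgroup.mul_mem_iff_of_index_two hidx, Subgroup.mul_mem_iff_of_index_two hidx,
      inv_mem_iff, inv_mem_iff]
    tauto
  have heq : (commutator Spor.Fi24).map e.toMonoidHom = G₀ := by
    refine Subgroup.eq_of_le_of_card_ge hle (le_of_eq ?_)
    have h1 := G₀.card_mul_index
    have h2 := ((commutator Spor.Fi24).map e.toMonoidHom).card_mul_index
    rw [hidx] at h1
    rw [hidx'] at h2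
    omega
  exact ⟨(MulEquiv.subgroupCongr heq.symm).trans
    ((commutator Spor.Fi24).equivMapOfInjective e.toMonoidHom e.injective).symm⟩

end H71.Mon24
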