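/-
The large Fischer type at an involution is carried along isomorphisms.
-/
import Cfsg.Prelude.Def_MonsterType
import Cfsg.Agent.H71.PCompCrit
import Cfsg.Agent.H68.ExtraComm

set_option autoImplicit false

namespace H71.Mon24

open Cfsg

universe u

variable {G G' : Type u} [Group G] [Group G'] (e : G ≃* G') (z : G)

/-- The centralisers correspond. -/
def centEquiv : ↥(Subgroup.centralizer ({z} : Set G)) ≃* ↥(Subgroup.centralizer ({e z} : Set G')) where
  toFun h := ⟨e h, Subgroup.mem_centralizer_singleton_iff.2 (by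
    rw [← map_mul, ← map_mul, Subgroup.mem_centralizer_singleton_iff.1 h.2])⟩
  invFun h := ⟨e.symm h, Subgroup.mem_centralizer_singleton_iff.2 (e.injective (by
    rw [map_mul, map_mul, e.apply_symm_apply, Subgroup.mem_centralizer_singleton_iff.1 h.2]))⟩
  left_inv h := Subtype.ext (e.symm_apply_apply _)
  right_inv h := Subtype.ext (e.apply_symm_apply _)
  map_mul' a b := Subtype.ext (map_mul e (a : G) b)

theorem large_map {z : G} {Q : Subgroup (Subgroup.centralizer ({z} : Set G))} [Q.Normal]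
    (hF : IsOfLargeFischerTypeAt z Q) [(Q.map (centEquiv e z).toMonoidHom).Normal] :
    IsOfLargeFischerTypeAt (e z) (Q.map (centEquiv e z).toMonoidHom) := by
  obtain ⟨⟨hz, hFit, hE, hcard, g, ⟨hq, hqQ⟩, hne⟩, N, M, hNn, hMn, hQN, hNM, hN,
    ⟨K, iK, iK', hK, ⟨f⟩⟩, hM⟩ := hF
  set c := centEquiv e z
  have hsurj : Function.Surjective c.toMonoidHom := c.surjective
  refine ⟨⟨(e.orderOf_eq z).trans hz, ?_, ?_, ?_, e g, ⟨?_, ?_⟩, ?_⟩, N.map c.toMonoidHom,
    M.map c.toMonoidHom, hNn.map _ hsurj, hMn.map _ hsurj, Subgroup.map_mono hQN,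
    Subgroup.map_mono hNM, ?_, ⟨K, iK, iK', hK, ?_⟩, ?_⟩
  · rw [← H71.fStar_map_equiv c, hFit]
  · exact H68.isExtraspecial_of_equiv (Q.equivMapOfInjective c.toMonoidHom c.injective) hE
  · rw [← hcard]; exact Subgroup.card_map_of_injective c.injective
  · rw [← map_inv, ← map_mul, ← map_mul]
    exact (c ⟨_, hq⟩).2
  · refine ⟨⟨_, hq⟩, hqQ, Subtype.ext ?_⟩
    show e (g * z * g⁻¹) = _
    simp
  · rw [← map_inv, ← map_mul, ← map_mul]
    exact fun h => hne (e.injective h)
  · rw [Subgroup.card_map_of_injective c.injective, Subgroup.card_map_of_injective c.injective, hN]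
  · haveI : (N.map c.toMonoidHom).Normal := hNn.map _ hsurj
    refine ⟨(QuotientGroup.congr _ ((N.map c.toMonoidHom).subgroupOf (M.map c.toMonoidHom))
      (M.equivMapOfInjective c.toMonoidHom c.injective) ?_).symm.trans f⟩
    ext x
    constructor
    · rintro ⟨m, hm, rfl⟩
      exact Subgroup.mem_subgroupOf.2 ⟨(m : _), Subgroup.mem_subgroupOf.1 hm, rfl⟩
    · intro hx
      obtain ⟨n, hn, e'⟩ := Subgroup.mem_subgroupOf.1 hx
      refine ⟨⟨n, hNM hn⟩, Subgroup.mem_subgroupOf.2 hn, Subtype.ext e'⟩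
  · rw [Subgroup.index_map_of_bijective c.bijective]; exact hM

end H71.Mon24
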