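/-
The centraliser and normaliser of a central element of order three in a group of Monster type.
-/
import Cfsg.Agent.H71.Mon24.Inverter
import Cfsg.Agent.H71.Mon24.FStar
import Cfsg.Agent.H71.Mon24.Transport
import Cfsg.Agent.H71.Mon24.Prim
import Cfsg.Agent.H6.Basic

set_option autoImplicit false
set_option maxRecDepth 100000
set_option linter.unusedSectionVars false

namespace H71.Mon24

open Cfsg H95 H56M H84.Mon H12.Monster
open scoped commutatorElement

universe u

theorem cand_two : Three.cfg.candOK 2 false = true := by decide +kernel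

variable {G : Type u} [Group G] [Finite G] {z s : G} {Q : Subgroup (CZ z)} [Q.Normal] {D : Data z Q}
  {y : G}

/-- The large Fischer type with its witnesses. -/
theorem large (S : Setup D s y (Three.cfg.aut Three.cfg_ok) 3) [(YN y).Normal] :
    ∃ (Z : (CY y) ⧸ YN y) (R : Subgroup (CZ Z)) (_ : R.Normal), IsOfLargeFischerTypeAt Z R ∧
      (∀ x : CY y, (x : G) = z → (x : (CY y) ⧸ YN y) = Z) ∧
      ∀ c : CZ Z, c ∈ R ↔ ∃ x : CY y, (x : G) ∈ QC Q y ∧ (x : (CY y) ⧸ YN y) = c := by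
  obtain ⟨N', M', hN, hM', hNM, hcardN, hidx, ⟨θ, hθs, hθk⟩, hT⟩ := Three.structure_PP
  obtain ⟨Z, R, hR, hset, ⟨e⟩, hZ, hRc⟩ := S.setting (w := 6) (by norm_num) Three.ncard_fix
    (QuotientGroup.mk' Three.N1) (QuotientGroup.mk'_surjective _)
    (fun a => (QuotientGroup.eq_one_iff a).trans Three.mem_N1) Three.kernel_act hT
  let f : CZ Z →* Three.PP := e.toMonoidHom.comp (QuotientGroup.mk' R)
  have hf : Function.Surjective f := e.surjective.comp (QuotientGroup.mk'_surjective R)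
  have hfR : f.ker = R := by
    ext x
    rw [MonoidHom.mem_ker]
    show e (QuotientGroup.mk' R x) = 1 ↔ _
    rw [MulEquiv.map_eq_one_iff]
    exact QuotientGroup.eq_one_iff x
  refine ⟨Z, R, hR, ⟨hset, N'.comap f, M'.comap f, hN.comap f, hM'.comap f, ?_,
    Subgroup.comap_mono hNM, ?_,
    ⟨H50.McLU4.K, inferInstance, inferInstance, by rw [H50.McLU4.hK]; norm_num, ?_⟩, ?_⟩, hZ, hRc⟩
  · intro x hx
    rw [Subgroup.mem_comap, MonoidHom.mem_ker.mp (hfR.symm ▸ hx)]
    exact one_mem _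
  · haveI := Three.finite_co0
    have h1 := (N'.comap f).card_mul_index
    have h2 := R.card_mul_index
    have h3 := N'.card_mul_index
    rw [Subgroup.index_comap_of_surjective _ hf] at h1
    have h4 : R.index = Nat.card Three.PP := Nat.card_congr e.toEquiv
    rw [h4, ← h3, hcardN] at h2
    have hi : 0 < N'.index := Nat.pos_of_ne_zero Subgroup.FiniteIndex.index_ne_zero
    rw [← h2] at h1
    exact Nat.eq_of_mul_eq_mul_right hi (h1.trans (by ring))
  · let ρ : M'.comap f →* M' := f.subgroupComap M'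
    have hρ : Function.Surjective ρ := fun m => by
      obtain ⟨x, hx⟩ := hf m
      exact ⟨⟨x, show f x ∈ M' by rw [hx]; exact m.2⟩, Subtype.ext hx⟩
    have hk : (θ.comp ρ).ker = (N'.comap f).subgroupOf (M'.comap f) := by
      rw [← MonoidHom.comap_ker, hθk]
      rfl
    exact ⟨(QuotientGroup.quotientMulEquivOfEq hk.symm).trans
      (QuotientGroup.quotientKerEquivOfSurjective _ (hθs.comp hρ))⟩
  · rw [Subgroup.index_comap_of_surjective _ hf, hidx]

/-- The element of order three is a commutator inside its centraliser. -/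
theorem mem_commutator (hM : IsOfMonsterType z Q) (hs : s ∈ QG Q) (hsc : IsConj z s) (hsz : s ≠ z)
    {Y : Subgroup G} (hY : Y ≤ LL z s) (hY3 : Nat.card Y = 3) (P : Sylow 3 ↥(LL z s))
    (hc : Y.subgroupOf (LL z s) ≤ (Subgroup.center ↥(P : Subgroup ↥(LL z s))).map
      (P : Subgroup ↥(LL z s)).subtype) (hYy : Y = Subgroup.zpowers y) :
    (⟨y, mem_CY.mpr rfl⟩ : CY y) ∈ commutator (CY y) := by
  classical
  haveI : Fact (Nat.Prime 3) := ⟨Nat.prime_three⟩
  haveI := Three.finite_co0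
  set P' : Subgroup G := (P : Subgroup ↥(LL z s)).map (LL z s).subtype with hP'
  have hPc : Nat.card P' = 3 ^ (Nat.card (LL z s)).factorization 3 := by
    rw [hP', Subgroup.card_map_of_injective (LL z s).subtype_injective]
    exact P.card_eq_multiplicity
  have hP3 : IsPGroup 3 P' := IsPGroup.of_card hPc
  obtain ⟨D₀⟩ := nonempty_data hM
  obtain ⟨D₁, hD₁⟩ := D₀.exists_twist64 hs hsc hsz
  obtain ⟨E, -, hin, hsur⟩ := normal_form D₁ hD₁ hsz hsc (p := 3) (by norm_num)
    (Subgroup.map_subtype_le _) hPc Three.P0 (by rw [Three.card_P0, Three.fact_three]; norm_num)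
  -- `y` is central in `P'`
  have hyY : y ∈ Y := hYy ▸ Subgroup.mem_zpowers y
  obtain ⟨c, hcc, hce⟩ := hc (Subgroup.mem_subgroupOf.mpr hyY : (⟨y, hY hyY⟩ : LL z s) ∈ _)
  have hyP : y ∈ P' := ⟨_, c.2, congrArg Subtype.val hce⟩
  have hycomm : ∀ a ∈ P', y * a = a * y := by
    rintro _ ⟨a, ha, rfl⟩
    have h := congrArg (fun x : (P : Subgroup ↥(LL z s)) => ((x : LL z s) : G))
      (Subgroup.mem_center_iff.mp hcc ⟨a, ha⟩)
    have e : ((c : LL z s) : G) = y := congrArg Subtype.val hce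
    simp only [Subgroup.coe_mul, e] at h
    exact h.symm
  -- commuting elements give commuting permutations
  have hcp : ∀ {a b : G} {σ τ : M24},
      E.Lift a (mono (σ : Equiv.Perm GolayPt) ∅ σ.2 H56M.empty_supp) →
      E.Lift b (mono (τ : Equiv.Perm GolayPt) ∅ τ.2 H56M.empty_supp) → a * b = b * a →
      σ * τ = τ * σ := by
    intro a b σ τ hl hla hab
    have h1 := hl.mul hla
    have h2 := hla.mul hl
    rw [← hab] at h2
    apply H56M.permHom_injective
    rw [map_mul, map_mul]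
    show ((QuotientGroup.mk _ : Spor.Co1) * QuotientGroup.mk _) =
      (QuotientGroup.mk _ : Spor.Co1) * QuotientGroup.mk _
    rw [← QuotientGroup.mk_mul, ← QuotientGroup.mk_mul, QuotientGroup.eq]
    rcases h1.unique h2 with e | e <;> rw [e]
    · rw [inv_mul_cancel]; exact one_mem _
    · rw [inv_mul_cancel_left]; exact negOne_mem_center
  -- the central elements of `P'`
  have hcen : ∀ a ∈ P', (∀ b ∈ P', a * b = b * a) →
      ∃ k : ℕ, k < 3 ∧ E.Lift a (Three.cfg.aut Three.cfg_ok ^ k) ∧ (k = 0 → a = 1) := by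
    intro a ha hab
    obtain ⟨σ, hσ, hl⟩ := hin a ha
    obtain ⟨k, hk⟩ := Three.central_P0 hσ fun τ hτ => by
      obtain ⟨b, hb, hlb⟩ := hsur τ hτ
      exact hcp hl hlb (hab b hb)
    have hl' : E.Lift a (Three.cfg.aut Three.cfg_ok ^ k.val) := by
      have e : mono (σ : Equiv.Perm GolayPt) ∅ σ.2 H56M.empty_supp =
          Three.cfg.aut Three.cfg_ok ^ k.val := by
        rw [← Three.mono_pow_perm k.val (hk ▸ σ.2)]
        congr 1
      exact e ▸ hl
    refine ⟨k, k.isLt, hl', fun h0 => ?_⟩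
    rw [h0, pow_zero] at hl'
    obtain ⟨n, hn⟩ := hP3 ⟨a, ha⟩
    exact Setup.eq_one_of_odd_pow E (Odd.pow (by decide : Odd 3)) (E.lift_one_iff.mp hl')
      (congrArg Subtype.val hn)
  -- `P'` is not commutative
  obtain ⟨a₀, ha₀, b₀, hb₀, hne⟩ : ∃ a ∈ P', ∃ b ∈ P', a * b ≠ b * a := by
    by_contra hcon
    push Not at hcon
    have hsub : ((↑) : M24 → Equiv.Perm GolayPt) '' (Three.P0 : Set M24) ⊆
        Set.range fun k : Fin 3 => Three.cfg.perm Three.cfg_ok ^ k.val := by
      rintro _ ⟨σ, hσ, rfl⟩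
      obtain ⟨k, hk⟩ := Three.central_P0 hσ fun τ hτ => by
        obtain ⟨a, ha, hla⟩ := hsur σ hσ
        obtain ⟨b, hb, hlb⟩ := hsur τ hτ
        exact hcp hla hlb (hcon a ha b hb)
      exact ⟨k, hk.symm⟩
    have h1 := Set.ncard_le_ncard hsub (Set.finite_range _)
    rw [Set.ncard_image_of_injective _ Subtype.val_injective, ← Nat.card_coe_set_eq,
      SetLike.coe_sort_coe, Three.card_P0] at h1
    have h2 : (Set.range fun k : Fin 3 => Three.cfg.perm Three.cfg_ok ^ k.val).ncard ≤ 3 := by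
      rw [← Set.image_univ]
      exact (Set.ncard_image_le Set.finite_univ).trans (by simp [Set.ncard_univ])
    omega
  set K : Subgroup P' := commutator P' with hK
  have hKne : K ≠ ⊥ := fun h => by
    have h' : ⁅(⟨a₀, ha₀⟩ : P'), (⟨b₀, hb₀⟩ : P')⁆ ∈ K :=
      Subgroup.commutator_mem_commutator (Subgroup.mem_top _) (Subgroup.mem_top _)
    rw [h, Subgroup.mem_bot] at h'
    have h'' := commutatorElement_eq_one_iff_mul_comm.mp h'
    exact hne (congrArg Subtype.val h'')
  haveI : K.Normal := inferInstanceAs (commutator P').Normal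
  obtain ⟨w, hw, hw1⟩ := (Subgroup.bot_or_exists_ne_one _).resolve_left
    (H6.inf_center_ne_bot hP3 (N := K) hKne)
  obtain ⟨hwK, hwZ⟩ := Subgroup.mem_inf.mp hw
  -- a central element is a power of `y`
  have hwy : (w : G) ∈ Subgroup.zpowers y := by
    have hwcomm : ∀ b ∈ P', (w : G) * b = b * w := fun b hb =>
      (congrArg Subtype.val (Subgroup.mem_center_iff.mp hwZ ⟨b, hb⟩)).symm
    have hy1 : y ≠ 1 := fun h => by
      rw [hYy, h, Subgroup.zpowers_one_eq_bot, Subgroup.card_bot] at hY3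
      omega
    obtain ⟨j, hj3, hlj, hj⟩ := hcen y hyP hycomm
    obtain ⟨k, hk3, hlk, hk⟩ := hcen w w.2 hwcomm
    have hj0 : j ≠ 0 := fun h => hy1 (hj h)
    obtain ⟨m, hm⟩ : ∃ m : ℕ, (k + j * m) % 3 = 0 := by
      rcases (show j = 1 ∨ j = 2 by omega) with rfl | rfl
      · exact ⟨3 - k, by omega⟩
      · exact ⟨k, by omega⟩
    have hl2 : E.Lift ((w : G) * y ^ m) 1 := by
      have := hlk.mul (H84.Mon.lift_pow E hlj m)
      rwa [← pow_mul, ← pow_add, ← Nat.div_add_mod (k + j * m) 3, hm, add_zero, pow_mul,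
        show Three.cfg.aut Three.cfg_ok ^ 3 = 1 from Three.cfg.aut_pow Three.cfg_ok, one_pow] at this
    obtain ⟨n, hn⟩ := hP3 ⟨(w : G) * y ^ m, mul_mem w.2 (pow_mem hyP m)⟩
    have h1 : (w : G) * y ^ m = 1 :=
      Setup.eq_one_of_odd_pow E (Odd.pow (by decide : Odd 3)) (E.lift_one_iff.mp hl2)
        (congrArg Subtype.val hn)
    rw [eq_inv_of_mul_eq_one_left h1]
    exact inv_mem (Subgroup.npow_mem_zpowers y m)
  -- back to the centraliser
  let ι : P' →* CY y := P'.subtype.codRestrict (CY y) fun a => mem_CY.mpr (hycomm a a.2).symm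
  have hιw : ι w ∈ commutator (CY y) := by
    have h2 : K.map ι ≤ commutator (CY y) := by
      rw [hK, commutator_def, commutator_def, Subgroup.map_commutator]
      exact Subgroup.commutator_mono le_top le_top
    exact h2 (Subgroup.mem_map_of_mem ι hwK)
  obtain ⟨j, hj⟩ := hwy
  have hy3 : orderOf y = 3 := by rw [← Nat.card_zpowers, ← hYy, hY3]
  have hmem : Subgroup.zpowers (ι w) = Subgroup.zpowers (⟨y, mem_CY.mpr rfl⟩ : CY y) := by
    have hle : Subgroup.zpowers (ι w) ≤ Subgroup.zpowers (⟨y, mem_CY.mpr rfl⟩ : CY y) :=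
      Subgroup.zpowers_le.mpr ⟨j, Subtype.ext (by simpa [ι] using hj)⟩
    refine Subgroup.eq_of_le_of_card_ge hle ?_
    have hd := Subgroup.card_dvd_of_le hle
    have hz3 : Nat.card (Subgroup.zpowers (⟨y, mem_CY.mpr rfl⟩ : CY y)) = 3 := by
      rw [Nat.card_zpowers, ← Subgroup.orderOf_coe]
      exact hy3
    rw [hz3] at hd ⊢
    rcases (Nat.dvd_prime Nat.prime_three).mp hd with h | h
    · exfalso
      rw [Nat.card_zpowers, orderOf_eq_one_iff] at h
      exact hw1 (Subtype.ext (congrArg (fun x : CY y => (x : G)) h))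
    · omega
  exact (Subgroup.zpowers_le.mpr hιw) (hmem ▸ Subgroup.mem_zpowers _)

/-- The conclusion for the element in standard position. -/
theorem fischer (S : Setup D s y (Three.cfg.aut Three.cfg_ok) 3)
    [hn : (YN y).Normal]
    [hn' : ((Subgroup.zpowers y).subgroupOf
      (Subgroup.normalizer ((Subgroup.zpowers y : Subgroup G) : Set G))).Normal]
    (hcomm : (⟨y, mem_CY.mpr rfl⟩ : CY y) ∈ commutator (CY y)) :
    IsQuasisimple ↥(CY y) ∧ Spor.IsoFi24' ((CY y) ⧸ YN y) ∧
      ∃ E : Set (↥(Subgroup.normalizer ((Subgroup.zpowers y : Subgroup G) : Set G)) ⧸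
        (Subgroup.zpowers y).subgroupOf
          (Subgroup.normalizer ((Subgroup.zpowers y : Subgroup G) : Set G))),
        IsThreeTranspositionClass E ∧ IsOfTypeM24 _ E := by
  classical
  set NN : Subgroup G := Subgroup.normalizer ((Subgroup.zpowers y : Subgroup G) : Set G) with hNN
  set YM : Subgroup NN := (Subgroup.zpowers y).subgroupOf NN with hYM
  have hle : CY y ≤ NN := by
    intro x hx
    rw [hNN, Subgroup.mem_normalizer_iff]
    intro h
    have hx' := Subgroup.mem_centralizer_iff.mp hx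
    constructor
    · intro hh
      rwa [show x * h * x⁻¹ = h by rw [← hx' h hh, mul_inv_cancel_right]]
    · intro hh
      have := hx' _ hh
      rwa [show h = x⁻¹ * ((x * h * x⁻¹) * x) by group, this, inv_mul_cancel_left]
  let φ : CY y →* NN ⧸ YM := (QuotientGroup.mk' YM).comp (Subgroup.inclusion hle)
  have hker : φ.ker = YN y := by
    ext x
    exact (QuotientGroup.eq_one_iff _).trans (by
      rw [Subgroup.mem_subgroupOf, Subgroup.mem_subgroupOf]; rfl)
  set G₀ : Subgroup (NN ⧸ YM) := φ.range with hG₀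
  let e0 : (CY y) ⧸ YN y ≃* G₀ :=
    (QuotientGroup.quotientMulEquivOfEq hker.symm).trans (QuotientGroup.quotientKerEquivRange φ)
  have he0 : ∀ x : CY y, ((e0 (x : (CY y) ⧸ YN y) : G₀) : NN ⧸ YM) = φ x := fun x => rfl
  have hy3 : y ^ 3 = 1 := S.ypow
  have hy2 : y⁻¹ = y ^ 2 := inv_eq_of_mul_eq_one_right (by rw [← pow_succ', hy3])
  have hyne : y ≠ y⁻¹ := fun h => S.y_ne_one (by
    calc y = y ^ 3 * (y * y⁻¹) * (y⁻¹ * y⁻¹) := by group
      _ = 1 * 1 * (y * y⁻¹) := by rw [hy3, mul_inv_cancel]; nth_rewrite 1 [← h]; group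
      _ = 1 := by group)
  have hcases : ∀ n : NN, (n : G) * y * (n : G)⁻¹ = y ∨ (n : G) * y * (n : G)⁻¹ = y⁻¹ := by
    intro n
    have h1 : (n : G) * y * (n : G)⁻¹ ∈ Subgroup.zpowers y :=
      (Subgroup.mem_normalizer_iff.mp n.2 y).mp (Subgroup.mem_zpowers y)
    obtain ⟨i, hi, he⟩ := Finset.mem_image.mp (mem_zpowers_iff_mem_range_orderOf.mp h1)
    rw [S.ord, Finset.mem_range] at hi
    change y ^ i = _ at he
    interval_cases i
    · exfalso
      rw [pow_zero] at he
      exact S.y_ne_one (by rw [eq_comm, conj_eq_one_iff] at he; exact he)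
    · exact Or.inl (by rw [← he, pow_one])
    · exact Or.inr (by rw [← he, hy2])
  have hmem : ∀ n : NN, (QuotientGroup.mk' YM n ∈ G₀ ↔ (n : G) * y = y * n) := by
    intro n
    constructor
    · rintro ⟨x, hx⟩
      have h1 : ((x : G))⁻¹ * n ∈ Subgroup.zpowers y := by
        have h2 := QuotientGroup.eq.mp hx
        exact Subgroup.mem_subgroupOf.mp h2
      have hy' : Subgroup.zpowers y ≤ CY y :=
        Subgroup.zpowers_le.mpr (mem_CY.mpr rfl)
      exact mem_CY.mp (by simpa using mul_mem x.2 (hy' h1))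
    · intro h
      exact ⟨⟨n, mem_CY.mpr h⟩, rfl⟩
  -- an inverting element
  obtain ⟨x₀, hx₀z, hx₀⟩ := exists_inverting S
  have hx₀N : x₀ ∈ NN := by
    have hk : ∀ k : ℤ, x₀ * y ^ k * x₀⁻¹ = (y ^ k)⁻¹ := fun k => by
      rw [← conj_zpow, hx₀, inv_zpow]
    rw [hNN, Subgroup.mem_normalizer_iff]
    intro h
    constructor
    · rintro ⟨k, rfl⟩
      rw [show x₀ * (fun x : ℤ => y ^ x) k * x₀⁻¹ = (y ^ k)⁻¹ from hk k]
      exact inv_mem (Subgroup.zpow_mem_zpowers y k)
    · rintro ⟨k, hk'⟩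
      refine ⟨-k, ?_⟩
      show y ^ (-k) = h
      refine mul_left_cancel (a := x₀) (mul_right_cancel (b := x₀⁻¹) ?_)
      rw [hk (-k), zpow_neg, inv_inv]
      exact hk'
  have hidx : G₀.index = 2 := by
    rw [Subgroup.index_eq_two_iff]
    refine ⟨QuotientGroup.mk' YM ⟨x₀, hx₀N⟩, fun b => ?_⟩
    obtain ⟨n, rfl⟩ := QuotientGroup.mk'_surjective YM b
    rw [← map_mul, hmem, hmem, Subgroup.coe_mul]
    have e : (n : G) * x₀ * y * ((n : G) * x₀)⁻¹ = ((n : G) * y * (n : G)⁻¹)⁻¹ := by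
      calc (n : G) * x₀ * y * ((n : G) * x₀)⁻¹ = (n : G) * (x₀ * y * x₀⁻¹) * (n : G)⁻¹ := by group
        _ = _ := by rw [hx₀]; group
    have c1 : (n : G) * x₀ * y = y * ((n : G) * x₀) ↔ (n : G) * y * (n : G)⁻¹ = y⁻¹ := by
      rw [← mul_inv_eq_iff_eq_mul, e, inv_eq_iff_eq_inv]
    have c2 : (n : G) * y = y * n ↔ (n : G) * y * (n : G)⁻¹ = y :=
      (mul_inv_eq_iff_eq_mul).symm
    rw [c1, c2]
    rcases hcases n with h | h
    · exact Or.inr ⟨h, fun h' => hyne (h.symm.trans h')⟩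
    · exact Or.inl ⟨h, fun h' => hyne (h'.symm.trans h)⟩
  -- the type
  obtain ⟨Z, R, hRn, hF, hZ, hRc⟩ := large S
  haveI := hRn
  haveI : (R.map (centEquiv e0 Z).toMonoidHom).Normal :=
    Subgroup.Normal.map hRn _ (centEquiv e0 Z).surjective
  have hF' := large_map e0 hF
  set zC : CY y := ⟨z, mem_CY.mpr S.yz.symm⟩ with hzC
  have hzX : ((e0 Z : G₀) : NN ⧸ YM) = φ zC := by rw [← hZ zC rfl, he0]
  have hout : ∀ a : NN ⧸ YM, a ∉ G₀ → Commute a ((e0 Z : G₀) : NN ⧸ YM) →
      ∃ q ∈ R.map (centEquiv e0 Z).toMonoidHom,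
      a * ((q : G₀) : NN ⧸ YM) * a⁻¹ ≠ ((q : G₀) : NN ⧸ YM) ∧
      a * ((q : G₀) : NN ⧸ YM) * a⁻¹ ≠ ((q : G₀) : NN ⧸ YM) * ((e0 Z : G₀) : NN ⧸ YM) := by
    intro a ha hac
    obtain ⟨n, rfl⟩ := QuotientGroup.mk'_surjective YM a
    by_contra hcon
    simp only [not_exists, not_and, not_not, ne_eq] at hcon
    have hny : (n : G) * y * (n : G)⁻¹ = y⁻¹ := by
      rcases hcases n with h | h
      · exact absurd ((hmem n).mpr (mul_inv_eq_iff_eq_mul.mp h)) ha
      · exact h
    rw [hzX] at hac hcon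
    have hnz : (n : G) * z = z * n := by
      have h1 : QuotientGroup.mk' YM (n * Subgroup.inclusion hle zC * n⁻¹ *
          (Subgroup.inclusion hle zC)⁻¹) = 1 := by
        rw [map_mul, map_mul, map_mul, map_inv, map_inv]
        show QuotientGroup.mk' YM n * φ zC * (QuotientGroup.mk' YM n)⁻¹ * (φ zC)⁻¹ = 1
        rw [hac.eq, mul_inv_cancel_right, mul_inv_cancel]
      obtain ⟨k, hk⟩ : (n : G) * z * (n : G)⁻¹ * z⁻¹ ∈ Subgroup.zpowers y :=
        Subgroup.mem_subgroupOf.mp ((QuotientGroup.eq_one_iff _).mp h1)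
      change y ^ k = _ at hk
      have e1 : (n : G) * z * (n : G)⁻¹ = y ^ k * z := by rw [hk]; group
      have hc : Commute (y ^ k) z := (show Commute y z from S.yz).zpow_left k
      have h2 : (y ^ k * z) ^ 2 = 1 := by
        rw [← e1, conj_pow, pow_two, D.z_sq]; group
      rw [hc.mul_pow, pow_two z, D.z_sq, mul_one] at h2
      have h3 : (y ^ k) ^ 3 = 1 := by
        rw [← zpow_natCast, ← zpow_mul, mul_comm, zpow_mul, zpow_natCast, hy3, one_zpow]
      rw [pow_succ, h2, one_mul] at h3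
      rw [h3, one_mul] at e1
      exact mul_inv_eq_iff_eq_mul.mp e1
    refine Bool.noConfusion (kernel_lift D Three.cfg Three.cfg_ok Three.cfg_odd S.lift S.ypow
      cand_two (mem_CZ.mpr hnz) (hny.trans hy2) fun v hv g₀ hl => ?_).1
    have hq : D.elt v ∈ QC Q y := S.rep_mem_QC (D.rep_elt v) hv
    set qC : CY y := ⟨D.elt v, mem_CY.mpr (mem_QC.mp hq).2⟩ with hqC
    have hcz : (qC : (CY y) ⧸ YN y) ∈ CZ Z := by
      rw [mem_CZ, ← hZ zC rfl, ← QuotientGroup.mk_mul, ← QuotientGroup.mk_mul]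
      exact congrArg _ (Subtype.ext (mem_CZ.mp (coe_mem_CZ (D.rep_elt v).mem)))
    have hqR : (⟨(qC : (CY y) ⧸ YN y), hcz⟩ : CZ Z) ∈ R := (hRc _).mpr ⟨qC, hq, rfl⟩
    have key : ∀ w ∈ QG Q, ∀ hw : w ∈ NN,
        QuotientGroup.mk' YM n * φ qC * (QuotientGroup.mk' YM n)⁻¹ = QuotientGroup.mk' YM ⟨w, hw⟩ →
          (n : G) * D.elt v * (n : G)⁻¹ = w := by
      intro w hw hwN h
      obtain ⟨k, hk⟩ : ((n : G) * D.elt v * (n : G)⁻¹) * w⁻¹ ∈ Subgroup.zpowers y := by
        have h1 : QuotientGroup.mk' YM (n * Subgroup.inclusion hle qC * n⁻¹ * ⟨w, hwN⟩⁻¹) = 1 := by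
          rw [map_mul, map_mul, map_mul, map_inv, map_inv]
          show QuotientGroup.mk' YM n * φ qC * (QuotientGroup.mk' YM n)⁻¹ *
            (QuotientGroup.mk' YM ⟨w, hwN⟩)⁻¹ = 1
          rw [h, mul_inv_cancel]
        exact Subgroup.mem_subgroupOf.mp ((QuotientGroup.eq_one_iff _).mp h1)
      change y ^ k = _ at hk
      have h0 := S.zpow_mem_QG (k := k) (hk ▸ mul_mem
        (QG_normal (mem_CZ.mpr hnz) (D.rep_elt v).mem) (inv_mem hw))
      exact mul_inv_eq_one.mp (hk.symm.trans h0)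
    have hconj := (D.rep_elt v).conj hl
    by_cases hA : QuotientGroup.mk' YM n * φ qC * (QuotientGroup.mk' YM n)⁻¹ = φ qC
    · rw [key _ (D.rep_elt v).mem (hle qC.2) hA] at hconj
      exact hconj.unique (D.rep_elt v)
    · have hB := hcon _ (Subgroup.mem_map_of_mem _ hqR) hA
      rw [key (D.elt v * z) (mul_mem (D.rep_elt v).mem D.z_mem) (hle (qC * zC).2)
        (hB.trans (map_mul φ qC zC).symm)] at hconj
      exact (hconj.unique ((D.rep_elt v).mul D.rep_z)).trans (by rw [add_zero])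
  have hFX := fitting_eq G₀ hidx hF' hout
  obtain ⟨hE, ⟨eG⟩⟩ := identify G₀ hidx hF' (central_sylow hF') hFX
  have eC : Spor.IsoFi24' ((CY y) ⧸ YN y) := ⟨e0.trans eG⟩
  refine ⟨?_, eC, hE⟩
  -- quasisimplicity
  obtain ⟨hsimp, hcard⟩ := Cfsg.Agent.S1698.result
  obtain ⟨e1⟩ := eC
  haveI : IsSimpleGroup ((CY y) ⧸ YN y) :=
    by
    haveI := hsimp
    haveI : Nontrivial ((CY y) ⧸ YN y) := e1.toEquiv.nontrivial
    exact IsSimpleGroup.isSimpleGroup_of_surjective e1.symm.toMonoidHom e1.symm.surjective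
  have hcq : Nat.card ((CY y) ⧸ YN y) = 1255205709190661721292800 := by
    rw [Nat.card_congr e1.toEquiv, hcard]
  have hnab : commutator ((CY y) ⧸ YN y) = ⊤ ∧ Subgroup.center ((CY y) ⧸ YN y) = ⊥ := by
    have hna : ¬ ∀ a b : (CY y) ⧸ YN y, a * b = b * a := fun hc => by
      letI : CommGroup ((CY y) ⧸ YN y) := { (inferInstance : Group ((CY y) ⧸ YN y)) with mul_comm := hc }
      have hp : (Nat.card ((CY y) ⧸ YN y)).Prime := IsSimpleGroup.prime_card
      rw [hcq] at hp
      exact absurd (hp.eq_one_or_self_of_dvd 2 (by norm_num)) (by norm_num)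
    constructor
    · rcases (inferInstance : (commutator ((CY y) ⧸ YN y)).Normal).eq_bot_or_eq_top with h | h
      · refine absurd (fun a b => commutatorElement_eq_one_iff_mul_comm.mp ?_) hna
        have : ⁅a, b⁆ ∈ commutator ((CY y) ⧸ YN y) :=
          Subgroup.commutator_mem_commutator (Subgroup.mem_top a) (Subgroup.mem_top b)
        rwa [h, Subgroup.mem_bot] at this
      · exact h
    · rcases (inferInstance : (Subgroup.center ((CY y) ⧸ YN y)).Normal).eq_bot_or_eq_top with h | h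
      · exact h
      · exact absurd (fun a b => Subgroup.mem_center_iff.mp (h ▸ Subgroup.mem_top b) a) hna
  have hYc : YN y ≤ Subgroup.center (CY y) := fun x hx => Subgroup.mem_center_iff.mpr fun g =>
    Subtype.ext (Subgroup.mem_centralizer_iff.mp g.2 _ (Subgroup.mem_subgroupOf.mp hx)).symm
  have hcy : Subgroup.center (CY y) = YN y := by
    refine le_antisymm (fun x hx => (QuotientGroup.eq_one_iff x).mp ?_) hYc
    have : (x : (CY y) ⧸ YN y) ∈ Subgroup.center _ := Subgroup.mem_center_iff.mpr fun g => by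
      obtain ⟨g, rfl⟩ := QuotientGroup.mk_surjective g
      rw [← QuotientGroup.mk_mul, ← QuotientGroup.mk_mul, Subgroup.mem_center_iff.mp hx g]
    rwa [hnab.2, Subgroup.mem_bot] at this
  refine ⟨⟨?_⟩, ?_⟩
  · refine (Subgroup.eq_top_iff' _).mpr ?_
    have hYcomm : YN y ≤ commutator (CY y) := fun x hx => by
      obtain ⟨k, hk⟩ := Subgroup.mem_subgroupOf.mp hx
      have : (⟨y, mem_CY.mpr rfl⟩ : CY y) ^ k = x := Subtype.ext (by simpa using hk)
      exact this ▸ zpow_mem hcomm k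
    intro x
    have hx : (x : (CY y) ⧸ YN y) ∈ (commutator (CY y)).map (QuotientGroup.mk' (YN y)) := by
      rw [commutator_def, Subgroup.map_commutator,
        Subgroup.map_top_of_surjective _ (QuotientGroup.mk'_surjective _), ← commutator_def, hnab.1]
      exact Subgroup.mem_top _
    obtain ⟨c, hc, hcx⟩ := hx
    have := mul_mem hc (hYcomm (QuotientGroup.eq.mp hcx))
    rwa [mul_inv_cancel_left] at this
  · haveI : Nontrivial ((CY y) ⧸ Subgroup.center (CY y)) :=
      (QuotientGroup.quotientMulEquivOfEq hcy).toEquiv.nontrivial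
    exact IsSimpleGroup.isSimpleGroup_of_surjective
      (QuotientGroup.quotientMulEquivOfEq hcy.symm).toMonoidHom
      (QuotientGroup.quotientMulEquivOfEq hcy.symm).surjective

end H71.Mon24
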